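import Groth.Agent.P1Fib.Main
import Groth.Agent.AbelMap.Section
import Groth.Agent.QuotProj.EpiIso
import Groth.Agent.CycPB.Filt
import Groth.Agent.QC.Closure

/-!
# Two disjoint sections split the bundle
-/

set_option autoImplicit false
set_option linter.style.haveILetI false
set_option linter.unusedSectionVars false
set_option backward.isDefEq.respectTransparency false
set_option backward.isDefEq.respectTransparency.types false
set_option synthInstance.maxHeartbeats 400000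
set_option maxHeartbeats 1000000

universe u

open CategoryTheory CategoryTheory.Limits AlgebraicGeometry TopologicalSpace
open Groth.Agent.QC (res res_res res_self app_res res_smul)
open TMul (IsGen)

noncomputable section

namespace Groth.Agent.P1Fib

variable {X S : Scheme.{u}}

theorem pullSect_res' (s : S ⟶ X) (M : X.Modules) {V V' : X.Opens} (h : V' ≤ V) (m : Γ(M, V)) :
    res _ (s.preimage_mono h) (OmegaSh.pullSect s M V m) = OmegaSh.pullSect s M V' (res M h m) :=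
  (PBundle.pullSect_res s M h m).symm

/-- The canonical section of the inverse of the ideal of a closed subscheme dies on it, and generates elsewhere. -/
theorem exists_canonical_section (s : S ⟶ X) [IsClosedImmersion s] (hc : BlowUp.IsEffCartierIdeal s.ker)
    {L : X.Modules} (hL : PicF.IsInvertible L) (hLI : ClSub.IsInverseOf L (ClSub.idealMod s.ker)) :
    ∃ u : Coh.structureModule X ⟶ L, OmegaSh.pullSect s L ⊤ (TMul.val u ⊤) = 0 ∧
      ∀ x : X, x ∉ Set.range s → x ∈ CohB1.genLocus L u := by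
  obtain ⟨u, hu⟩ := AbelMap.exists_section hc hL hLI
  refine ⟨u, ?_, fun x hx => AbelMap.mem_genLocus_of_notMem hL u fun h => hx ?_⟩
  · refine QC.section_eq_of_locally fun b _ => ?_
    obtain ⟨U₁, g₁, hx₁, hg₁⟩ := TMul.exists_isGen hL (s b)
    obtain ⟨U, hU, hbU, hUle⟩ := exists_isAffineOpen_mem_and_subset (x := s b) (U := U₁) hx₁
    replace hUle : U ≤ U₁ := hUle
    have hg := hg₁.res hUle
    obtain ⟨c, hc'⟩ := (hg U le_rfl).2 (TMul.val u U)
    simp only [res_self] at hc'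
    have hmem : c ∈ s.ker.ideal ⟨U, hU⟩ := by
      rw [← hu, ZeroSch.ideal_zeroScheme_eq_span u hL ⟨U, hU⟩ hg hc'.symm]
      exact Ideal.mem_span_singleton_self c
    rw [Scheme.Hom.ker_apply, RingHom.mem_ker] at hmem
    refine ⟨s ⁻¹ᵁ U, le_top, hbU, ?_⟩
    rw [map_zero]
    refine (pullSect_res' s L (le_top : U ≤ ⊤) (TMul.val u ⊤)).trans ?_
    rw [TMul.res_val, ← hc', PBundle.pullSect_smul]
    erw [hmem, zero_smul]
  · rw [hu] at h
    have h2 : x ∈ closure (Set.range s) := s.support_ker ▸ h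
    rwa [s.isClosedEmbedding.isClosed_range.closure_eq] at h2

variable {C B : Scheme.{u}} {f : C ⟶ B} {E : B.Modules} {L : C.Modules}
  {q : (Scheme.Modules.pullback f).obj E ⟶ L}

/-- The quotient of the bundle given by a section. -/
def sectQuot (q : (Scheme.Modules.pullback f).obj E ⟶ L) (s : B ⟶ C) (hs : s ≫ f = 𝟙 B) :
    E ⟶ (Scheme.Modules.pullback s).obj L :=
  (Scheme.Modules.pullbackId B).inv.app E ≫ PBundle.bc q s hs (𝟙 _)

theorem sectQuot_app (q : (Scheme.Modules.pullback f).obj E ⟶ L) (s : B ⟶ C) (hs : s ≫ f = 𝟙 B) (W : B.Opens)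
    (t : Γ(E, W)) :
    (sectQuot q s hs).app W t = res ((Scheme.Modules.pullback s).obj L)
      (show W ≤ s ⁻¹ᵁ (f ⁻¹ᵁ W) by rw [← Scheme.Hom.comp_preimage, hs]; exact le_rfl)
      (OmegaSh.pullSect s L (f ⁻¹ᵁ W) (PBundle.sec' f q W t)) := by
  have h1 : ((Scheme.Modules.pullbackId B).inv.app E).app W t = OmegaSh.pullSect (𝟙 B) E W t :=
    (congrArg (((Scheme.Modules.pullbackId B).inv.app E).app W) (PBundle.pullbackId_hom_pullSect E W t)).symm.trans
      (congr(($((Scheme.Modules.pullbackId B).hom_inv_id_app E)).app W (OmegaSh.pullSect (𝟙 B) E W t)))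
  show (PBundle.bc q s hs (𝟙 _)).app W (((Scheme.Modules.pullbackId B).inv.app E).app W t) = _
  rw [h1]
  exact PBundle.sec'_bc' q s hs (𝟙 _) W t

theorem epi_sectQuot [Epi q] (s : B ⟶ C) (hs : s ≫ f = 𝟙 B) : Epi (sectQuot q s hs) := by
  haveI := CycPB.epi_bc q s hs (𝟙 ((Scheme.Modules.pullback s).obj L))
  exact epi_comp _ _

variable (f) [IsProper f] [SmoothOfRelativeDimension 1 f]

omit [IsProper f] [SmoothOfRelativeDimension 1 f] in
/-- A section off a closed subscheme sees the canonical section as a generator. -/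
theorem isGen_sectQuot {s₁ : B ⟶ C} (u : Coh.structureModule C ⟶ L)
    (hu₁ : ∀ x : C, x ∉ Set.range s₁ → x ∈ CohB1.genLocus L u) (s₂ : B ⟶ C) (hs₂ : s₂ ≫ f = 𝟙 B)
    (hdisj : Disjoint (Set.range s₁) (Set.range s₂)) :
    IsGen ((sectQuot ((Scheme.Modules.pullbackPushforwardAdjunction f).counit.app L) s₂ hs₂).app ⊤
      (show Γ((Scheme.Modules.pushforward f).obj L, (⊤ : B.Opens)) from TMul.val u (f ⁻¹ᵁ ⊤))) := by
  have htri : ∀ (W : B.Opens) (t : Γ((Scheme.Modules.pushforward f).obj L, W)),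
      PBundle.sec' f ((Scheme.Modules.pullbackPushforwardAdjunction f).counit.app L) W t = t := fun W t =>
    congrArg (fun χ : (Scheme.Modules.pushforward f).obj L ⟶ (Scheme.Modules.pushforward f).obj L => χ.app W t)
      ((Scheme.Modules.pullbackPushforwardAdjunction f).right_triangle_components L)
  rw [sectQuot_app, htri]
  refine IsGen.res ?_ _
  have hle : ∀ z : B, s₂ z ∈ CohB1.genLocus L u := fun z =>
    hu₁ _ fun h => Set.disjoint_left.1 hdisj h ⟨z, rfl⟩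
  have hg := TMul.isGen_genLocus u
  have h2 : IsGen (res ((Scheme.Modules.pullback s₂).obj L) (show s₂ ⁻¹ᵁ (⊤ : C.Opens) ≤
      s₂ ⁻¹ᵁ CohB1.genLocus L u from fun z _ => hle z)
      (OmegaSh.pullSect s₂ L (CohB1.genLocus L u) (TMul.val u (CohB1.genLocus L u)))) :=
    (C1Cap.isGen_eta s₂ hg).res _
  have h3 : OmegaSh.pullSect s₂ L (CohB1.genLocus L u) (TMul.val u (CohB1.genLocus L u)) =
      res _ (s₂.preimage_mono (le_top : CohB1.genLocus L u ≤ ⊤)) (OmegaSh.pullSect s₂ L ⊤ (TMul.val u ⊤)) := by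
    rw [pullSect_res' s₂ L (le_top : CohB1.genLocus L u ≤ ⊤), TMul.res_val]
  rw [h3, res_res, res_self] at h2
  exact h2

/-- The splitting, with its data. -/
theorem exists_split_data (hfib : GeoP1 f) (s₁ s₂ : B ⟶ C) (hs₁ : s₁ ≫ f = 𝟙 B) (hs₂ : s₂ ≫ f = 𝟙 B)
    (hdisj : Disjoint (Set.range s₁) (Set.range s₂)) :
    ∃ (L : C.Modules) (u : Coh.structureModule C ⟶ L) (_ : PicF.IsInvertible L)
      (_ : KRR.IsProjBundle f ((Scheme.Modules.pushforward f).obj L) L
        ((Scheme.Modules.pullbackPushforwardAdjunction f).counit.app L))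
      (φ : (Scheme.Modules.pushforward f).obj L ≅
        (Scheme.Modules.pullback s₁).obj L ⊞ (Scheme.Modules.pullback s₂).obj L),
      (∀ x : C, x ∉ Set.range s₁ → x ∈ CohB1.genLocus L u) ∧
      φ.hom ≫ biprod.fst = sectQuot ((Scheme.Modules.pullbackPushforwardAdjunction f).counit.app L) s₁ hs₁ ∧
      φ.hom ≫ biprod.snd = sectQuot ((Scheme.Modules.pullbackPushforwardAdjunction f).counit.app L) s₂ hs₂ := by
  obtain ⟨L, hL, hLI⟩ := exists_inverse f s₁ hs₁
  obtain ⟨hE, hP⟩ := isProjBundle_of_inverse f hfib s₁ hs₁ hL hLI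
  haveI : IsClosedImmersion (s₁ ≫ f) := by rw [hs₁]; infer_instance
  haveI : IsClosedImmersion s₁ := IsClosedImmersion.of_comp s₁ f
  obtain ⟨u, hu₀, hu₁⟩ := exists_canonical_section s₁ (SectCartier.isEffCartierIdeal_ker f s₁ hs₁) hL hLI
  let E := (Scheme.Modules.pushforward f).obj L
  let adj := Scheme.Modules.pullbackPushforwardAdjunction f
  let q : (Scheme.Modules.pullback f).obj E ⟶ L := adj.counit.app L
  haveI : Epi q := hP.epi
  let M₁ := (Scheme.Modules.pullback s₁).obj L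
  let M₂ := (Scheme.Modules.pullback s₂).obj L
  have hM₁ : FlatMod.IsFinLocFreeOfRank 1 M₁ :=
    CurveRR.isFinLocFreeOfRank_one (PicLoc.isInvertible_pullback s₁ hL)
  have hM₂ : FlatMod.IsFinLocFreeOfRank 1 M₂ :=
    CurveRR.isFinLocFreeOfRank_one (PicLoc.isInvertible_pullback s₂ hL)
  have hsum : FlatMod.IsFinLocFreeOfRank 2 (M₁ ⊞ M₂) :=
    CycPB.isFinLocFreeOfRank_middle (S := ShortComplex.mk (biprod.inl : M₁ ⟶ M₁ ⊞ M₂) biprod.snd biprod.inl_snd)
      (ShortComplex.Splitting.ofHasBinaryBiproduct M₁ M₂).shortExact hM₁ hM₂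
  let θ₁ := sectQuot q s₁ hs₁
  let θ₂ := sectQuot q s₂ hs₂
  haveI : Epi θ₁ := epi_sectQuot s₁ hs₁
  let φ : E ⟶ M₁ ⊞ M₂ := biprod.lift θ₁ θ₂
  let u₀ : Γ(E, (⊤ : B.Opens)) := TMul.val u (f ⁻¹ᵁ ⊤)
  have htri : ∀ (W : B.Opens) (t : Γ(E, W)), PBundle.sec' f q W t = t := fun W t =>
    congrArg (fun χ : E ⟶ E => χ.app W t) (adj.right_triangle_components L)
  have hzero : θ₁.app ⊤ u₀ = 0 := by
    rw [sectQuot_app, htri]
    show res _ _ (OmegaSh.pullSect s₁ L ⊤ (TMul.val u ⊤)) = 0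
    rw [hu₀]
    exact map_zero _
  have hgen : IsGen (θ₂.app ⊤ u₀) := isGen_sectQuot f u hu₁ s₂ hs₂ hdisj
  have hEq : Coh.IsQCoh E := LocFree.isQCoh_of_isFinLocFree (fun x => (hE x).imp fun U h => ⟨2, h⟩)
  have hM₁q : Coh.IsQCoh M₁ := TMul.isQCoh_of_isInvertible (PicLoc.isInvertible_pullback s₁ hL)
  haveI : Epi φ := InvGen.epi_of_locally φ fun U t x hx => by
    obtain ⟨V, hV, hxV, hVU⟩ := exists_isAffineOpen_mem_and_subset (x := x) (U := U) hx
    replace hVU : V ≤ U := hVU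
    let t' := res (M₁ ⊞ M₂) hVU t
    obtain ⟨w, hw⟩ := QC.app_surjective_of_epi hV hEq hM₁q θ₁ ((biprod.fst : M₁ ⊞ M₂ ⟶ M₁).app V t')
    obtain ⟨d, hd⟩ := (hgen V le_top).2 ((biprod.snd : M₁ ⊞ M₂ ⟶ M₂).app V t' - θ₂.app V w)
    let w' : Γ(E, V) := w + d • res E le_top u₀
    have h1 : θ₁.app V w' = (biprod.fst : M₁ ⊞ M₂ ⟶ M₁).app V t' := by
      simp only [w', map_add, Scheme.Modules.Hom.app_smul]
      rw [← app_res, hzero, map_zero, smul_zero, add_zero, hw]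
    have h2 : θ₂.app V w' = (biprod.snd : M₁ ⊞ M₂ ⟶ M₂).app V t' := by
      simp only [w', map_add, Scheme.Modules.Hom.app_smul]
      rw [← app_res]
      exact (congrArg (θ₂.app V w + ·) hd).trans (add_sub_cancel _ _)
    refine ⟨V, hVU, hxV, w', ?_⟩
    have hdec : ∀ z : Γ(M₁ ⊞ M₂, V), z = (biprod.inl : M₁ ⟶ M₁ ⊞ M₂).app V ((biprod.fst : M₁ ⊞ M₂ ⟶ M₁).app V z) +
        (biprod.inr : M₂ ⟶ M₁ ⊞ M₂).app V ((biprod.snd : M₁ ⊞ M₂ ⟶ M₂).app V z) := fun z => by
      exact (congrArg (fun χ : M₁ ⊞ M₂ ⟶ M₁ ⊞ M₂ => χ.app V z) (biprod.total (X := M₁) (Y := M₂))).symm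
    refine (hdec _).trans (Eq.trans ?_ (hdec t').symm)
    rw [← h1, ← h2]
    exact congrArg₂ (fun a b => (biprod.inl : M₁ ⟶ M₁ ⊞ M₂).app V a + (biprod.inr : M₂ ⟶ M₁ ⊞ M₂).app V b)
      (congrArg (fun χ : E ⟶ M₁ => χ.app V w') (biprod.lift_fst θ₁ θ₂))
      (congrArg (fun χ : E ⟶ M₂ => χ.app V w') (biprod.lift_snd θ₁ θ₂))
  haveI := QuotProj.isIso_of_epi_rank φ hE hsum
  exact ⟨L, u, hL, hP, asIso φ, hu₁, biprod.lift_fst θ₁ θ₂, biprod.lift_snd θ₁ θ₂⟩

/-- **Two disjoint sections split the bundle.** -/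
theorem exists_split (hfib : GeoP1 f) (s₁ s₂ : B ⟶ C) (hs₁ : s₁ ≫ f = 𝟙 B) (hs₂ : s₂ ≫ f = 𝟙 B)
    (hdisj : Disjoint (Set.range s₁) (Set.range s₂)) :
    ∃ L₁ L₂ : B.Modules, FlatMod.IsFinLocFreeOfRank 1 L₁ ∧ FlatMod.IsFinLocFreeOfRank 1 L₂ ∧
      ∃ (O1 : C.Modules) (q : (Scheme.Modules.pullback f).obj (L₁ ⊞ L₂) ⟶ O1),
        KRR.IsProjBundle f (L₁ ⊞ L₂) O1 q := by
  obtain ⟨L, u, hL, hP, φ, -⟩ := exists_split_data f hfib s₁ s₂ hs₁ hs₂ hdisj
  exact ⟨_, _, CurveRR.isFinLocFreeOfRank_one (PicLoc.isInvertible_pullback s₁ hL),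
    CurveRR.isFinLocFreeOfRank_one (PicLoc.isInvertible_pullback s₂ hL), L, _, PBundle.of_moduleIso hP φ.symm⟩

end Groth.Agent.P1Fib

end
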