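import Groth.Agent.P1Fib.Surface
import Groth.Agent.Nakai.FibreDeg
import Groth.Agent.Nakai.CurveConfig
import Groth.Agent.DCohShriek.DualModuleField
import Groth.Agent.Castel.VertLine
import Groth.Agent.CohFinite.PushLinear
import Groth.Agent.CohFinite.RPushVanish
import Groth.Agent.QuotCurve.Main
import Groth.Agent.PurePair.FlatBC
import Groth.Agent.SteinGen.NormalBase
import Groth.Agent.W7Strat.SeeBC
import Groth.Agent.Nagata.Bundles

/-!
# Direct images along surfaces fibred in projective lines
-/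

set_option autoImplicit false
set_option linter.style.haveILetI false
set_option linter.unusedSectionVars false
set_option backward.isDefEq.respectTransparency false
set_option backward.isDefEq.respectTransparency.types false
set_option synthInstance.maxHeartbeats 400000
set_option maxHeartbeats 1000000

universe u

open CategoryTheory CategoryTheory.Limits AlgebraicGeometry TopologicalSpace

noncomputable section

namespace Groth.Agent.P1Fib

variable {k : Type u} [Field k] [IsAlgClosed k] {X : Scheme.{u}} [X.Over (Spec (CommRingCat.of k))] [IsIntegral X]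
  [IsProper (X ↘ Spec (CommRingCat.of k))] (hX2 : topologicalKrullDim X = 2) {B : Scheme.{u}}
  [B.Over (Spec (CommRingCat.of k))] (hB : Curve.IsSmoothProperCurve k B (B ↘ Spec (CommRingCat.of k))) (π : X ⟶ B)
  (hπ : π ≫ (B ↘ Spec (CommRingCat.of k)) = X ↘ Spec (CommRingCat.of k)) (hsurj : Function.Surjective π)
  (hfib : ∀ b : B, IsClosed ({b} : Set B) → Nonempty (π.fiber b ≅ CohB1.ProjSpace 1 k))

include hX2 hB hπ hsurj hfib

/-- Cohomology on a closed fibre of a module of degree `n` along it. -/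
theorem fibre_degree {L : X.Modules} (hL : PicF.IsInvertible L) (z : B) (hz : IsClosed ({z} : Set B)) (n : ℕ)
    (hdeg : FGA.intNum k X 2 ![L, ClSub.idealMod ((Scheme.IdealSheafData.vanishingIdeal ⟨{z}, hz⟩).comap π)]
      (Coh.structureModule X) = -(n : ℤ)) :
    (∀ i : ℕ, 0 < i → Subsingleton (CohIII.fiberH π L z i)) ∧ CohIII.fiberRank π L 0 z = n + 1 := by
  obtain ⟨hπp, -⟩ := basic hX2 hB π hπ hsurj hfib
  haveI := hπp
  obtain ⟨hBp, hBs, -, -⟩ := id hB
  haveI := hBp; haveI := hBs
  haveI := CurveRR.isNoetherian_of_proper k B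
  haveI := smooth hX2 hB π hπ hsurj hfib
  haveI : Smooth (X ↘ Spec (CommRingCat.of k)) := by rw [← hπ]; infer_instance
  haveI : IsClosedImmersion (B.fromSpecResidueField z) := isClosed_singleton_iff_isClosedImmersion.mp hz
  let i := π.fiberι z
  haveI : IsClosedImmersion i := MorphismProperty.pullback_fst (P := @IsClosedImmersion) _ _ ‹_›
  obtain ⟨hac, e, -⟩ := closed_fibre hX2 hB π hπ hsurj hfib z hz
  haveI : IsIntegral (CohB1.ProjSpace 1 (B.residueField z)) := Horrocks.isIntegral_projSpace
  haveI : IsIntegral (π.fiber z) := IsIntegral.of_isIso e.inv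
  have hd : topologicalKrullDim (π.fiber z) = 1 :=
    (IsHomeomorph.topologicalKrullDim_eq _ e.hom.homeomorph.isHomeomorph).trans (Groth.Agent.S10829.result _ 1)
  letI oF : (π.fiber z).Over (Spec (CommRingCat.of k)) := ⟨i ≫ (X ↘ Spec (CommRingCat.of k))⟩
  haveI : IsProper (π.fiber z ↘ Spec (CommRingCat.of k)) := inferInstanceAs (IsProper (i ≫ _))
  haveI := CurveRR.isNoetherian_of_proper k (π.fiber z)
  let M := (Scheme.Modules.pullback i).obj L
  have hM : PicF.IsInvertible M := PicLoc.isInvertible_pullback i hL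
  have hO1 : Subsingleton (Coh.HH (π.fiber z) (Coh.structureModule (π.fiber z)) 1) :=
    Castel.subsingleton_hh_iso (PicLoc.pullbackStructureIso i) 1 (subsingleton_fiberH hX2 hB π hπ hsurj hfib z 1 one_pos)
  have hg : Curv2.genus k (π.fiber z) = 0 := CurveRR.h_eq_zero hO1
  have h0 := CurveRR.h0_structure k (π.fiber z)
  have hdM : Curv2.deg k (π.fiber z) M 1 = n := by
    haveI : IsIntegral i.ker.subscheme := IsIntegral.of_isIso i.toImage
    have h1 : topologicalKrullDim (i.ker.support : Set X) = 1 := by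
      rw [Scheme.Hom.support_ker, i.isClosedEmbedding.isClosed_range.closure_eq,
        ← IsHomeomorph.topologicalKrullDim_eq _ i.isClosedEmbedding.isEmbedding.toHomeomorph.isHomeomorph]
      exact hd
    have h := Nakai.intNum_ideal_right k hX2 i.ker h1 hL
    rw [Intersect.euler_quot_twist k i hL] at h
    have h2 := Intersect.euler_quot_twist k i (A := Coh.structureModule X) TMul.isInvertible_structureModule
    rw [CurveRR.euler_eq_of_iso (TMul.commIso (ClSub.quotMod i.ker) (Coh.structureModule X) ≪≫ TMul.leftUnitIso _),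
      CurveRR.euler_eq_of_iso (DerPerf.pullUnitIso i)] at h2
    rw [h2, Nakai.ker_fiberι π hz, hdeg] at h
    simp only [Curv2.deg]
    push_cast at h ⊢
    linarith
  have h1 : Subsingleton (Coh.HH (π.fiber z) M 1) :=
    CurveRR.subsingleton_h1 hd.le h0 hM (by rw [hdM, hg]; push_cast; omega)
  refine ⟨fun j hj => ?_, ?_⟩
  · rcases (show j = 1 ∨ 1 < j by omega) with rfl | hj'
    · exact h1
    · exact DCohShriek.subsingleton_hh_of_dim_le k 1 hd.le M (TMul.isQCoh_of_isInvertible hM) j hj'
  · have hh : CurveRR.h k M 0 = n + 1 := by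
      have := CurveRR.h0_eq_of_deg (k := k) hd.le h0 hM (by rw [hdM, hg]; push_cast; omega)
      rw [hdM, hg] at this
      push_cast at this
      omega
    let σ := residueFieldIsoBase (B ↘ Spec (CommRingCat.of k)) z hz
    letI : Algebra k (B.residueField z) := σ.inv.hom.toAlgebra
    have ht := Castel.finrank_hh_tower (k := k) (k' := B.residueField z) (π.fiberToSpecResidueField z)
      (i ≫ (X ↘ Spec (CommRingCat.of k))) (by
        change π.fiberToSpecResidueField z ≫ Spec.map σ.inv = _
        rw [SpecMap_residueFieldIsoBase_inv, ← hπ, ← Category.assoc, ← Category.assoc]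
        exact congrArg (· ≫ _) pullback.condition.symm) M 0
    have hk : Module.finrank k (B.residueField z) = 1 :=
      ((LinearEquiv.ofBijective (Algebra.linearMap k (B.residueField z))
        (σ.symm.commRingCatIsoToRingEquiv.bijective)).finrank_eq.symm).trans (Module.finrank_self k)
    rw [hk, one_mul] at ht
    exact ht.symm.trans hh

/-- Modules nonnegative on all closed fibres have no higher cohomology on any fibre. -/
theorem subsingleton_fiberH_of_nonneg {L : X.Modules} (hL : PicF.IsInvertible L)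
    (hdeg : ∀ (z : B) (hz : IsClosed ({z} : Set B)), FGA.intNum k X 2
      ![L, ClSub.idealMod ((Scheme.IdealSheafData.vanishingIdeal ⟨{z}, hz⟩).comap π)] (Coh.structureModule X) ≤ 0)
    (y : B) (i : ℕ) (hi : 0 < i) : Subsingleton (CohIII.fiberH π L y i) := by
  obtain ⟨hπp, hflat⟩ := basic hX2 hB π hπ hsurj hfib
  haveI := hπp; haveI := hflat
  obtain ⟨hBp, -⟩ := id hB
  haveI := hBp
  haveI := CurveRR.isNoetherian_of_proper k B
  haveI := CurveRR.isNoetherian_of_proper k X
  haveI : HasInjectiveResolutions X.Modules := inferInstance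
  obtain ⟨z, hz, hzc⟩ := IsClosed.exists_closed_singleton (S := closure ({y} : Set B)) isClosed_closure
    ⟨y, subset_closure rfl⟩
  obtain ⟨n, hn⟩ := Int.exists_eq_neg_ofNat (hdeg z hzc)
  obtain ⟨U, hzU, hU⟩ := W7Cech.exists_nhd_vanish π (CurveRR.isCoh_of_inv hL)
    (W7Hull.isFlatOver_of_isFinLocFree π (fun x => ((CurveRR.isFinLocFreeOfRank_one hL) x).imp fun U h => ⟨1, h⟩)) i z
    ((fibre_degree hX2 hB π hπ hsurj hfib hL z hzc n hn).1 i hi)
  exact hU y ((specializes_iff_mem_closure.2 hz).mem_open U.2 hzU)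

/-- Higher direct images vanish. -/
theorem isZero_rpush [HasInjectiveResolutions X.Modules] {L : X.Modules} (hL : PicF.IsInvertible L)
    (hdeg : ∀ (z : B) (hz : IsClosed ({z} : Set B)), FGA.intNum k X 2
      ![L, ClSub.idealMod ((Scheme.IdealSheafData.vanishingIdeal ⟨{z}, hz⟩).comap π)] (Coh.structureModule X) ≤ 0)
    (p : ℕ) (hp : 0 < p) : IsZero ((Coh.Rpush π p).obj L) := by
  obtain ⟨hπp, hflat⟩ := basic hX2 hB π hπ hsurj hfib
  haveI := hπp; haveI := hflat
  obtain ⟨hBp, -⟩ := id hB
  haveI := hBp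
  haveI := CurveRR.isNoetherian_of_proper k B
  haveI := CurveRR.isNoetherian_of_proper k X
  have hfl : FlatMod.IsFlatOver π L :=
    W7Hull.isFlatOver_of_isFinLocFree π (fun x => ((CurveRR.isFinLocFreeOfRank_one hL) x).imp fun U h => ⟨1, h⟩)
  have hz := W7Cech.isZero_restrict_of_vanish π (CurveRR.isCoh_of_inv hL) hfl p ⊤ fun y _ =>
    subsingleton_fiberH_of_nonneg hX2 hB π hπ hsurj hfib hL hdeg y p hp
  refine CohFinite.isZero_of_affine_cover _ (CohFinite.isCoh_rpush π L (CurveRR.isCoh_of_inv hL) p).1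
    (fun V : B.affineOpens => V.1) (fun V => V.2)
    (fun x => by
      obtain ⟨V, hV, hx, -⟩ := exists_isAffineOpen_mem_and_subset (X := B) (x := x) (U := ⊤) trivial
      exact ⟨⟨V, hV⟩, hx⟩) fun V s => ?_
  have hVe : (⊤ : B.Opens).ι ''ᵁ ((⊤ : B.Opens).ι ⁻¹ᵁ V.1) = V.1 := by
    rw [Scheme.Hom.image_preimage_eq_opensRange_inf, Scheme.Opens.opensRange_ι, top_inf_eq]
  have h : Subsingleton Γ((Coh.Rpush π p).obj L, (⊤ : B.Opens).ι ''ᵁ ((⊤ : B.Opens).ι ⁻¹ᵁ V.1)) :=
    PinchQC.subsingleton_sections_of_isZero hz ((⊤ : B.Opens).ι ⁻¹ᵁ V.1)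
  rw [hVe] at h
  exact Subsingleton.elim _ _

/-- Cohomology on the surface is cohomology of the direct image. -/
theorem hh_equiv [HasInjectiveResolutions X.Modules] {L : X.Modules} (hL : PicF.IsInvertible L)
    (hdeg : ∀ (z : B) (hz : IsClosed ({z} : Set B)), FGA.intNum k X 2
      ![L, ClSub.idealMod ((Scheme.IdealSheafData.vanishingIdeal ⟨{z}, hz⟩).comap π)] (Coh.structureModule X) ≤ 0)
    (i : ℕ) : Nonempty (Coh.HH X L i ≃ₗ[k] Coh.HH B ((Coh.push π).obj L) i) := by
  obtain ⟨hπp, -⟩ := basic hX2 hB π hπ hsurj hfib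
  haveI := hπp
  have hq := TMul.isQCoh_of_isInvertible hL
  refine CohFinite.hh_push_linear k π hπ L (CohFinite.directAcyclic_of_hh_vanish π L hq
    (fun V : B.affineOpens => V.1) (fun V => V.2)
    (fun x => by
      obtain ⟨V, hV, hx, -⟩ := exists_isAffineOpen_mem_and_subset (X := B) (x := x) (U := ⊤) trivial
      exact ⟨⟨V, hV⟩, hx⟩) fun V q => ?_) i
  obtain ⟨l⟩ := W7Cech.nonempty_rpush_sections π L hq (q + 1) V.2
  haveI := PinchQC.subsingleton_sections_of_isZero
    (isZero_rpush hX2 hB π hπ hsurj hfib hL hdeg (q + 1) q.succ_pos) V.1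
  exact l.toEquiv.symm.subsingleton

/-- The direct image of a module of degree `n` on the fibres is a bundle of rank `n + 1`. -/
theorem rank_push [HasInjectiveResolutions X.Modules] {L : X.Modules} (hL : PicF.IsInvertible L) (n : ℕ)
    (hdeg : ∀ (z : B) (hz : IsClosed ({z} : Set B)), FGA.intNum k X 2
      ![L, ClSub.idealMod ((Scheme.IdealSheafData.vanishingIdeal ⟨{z}, hz⟩).comap π)] (Coh.structureModule X) = -(n : ℤ)) :
    FlatMod.IsFinLocFreeOfRank (n + 1) ((Coh.push π).obj L) := by
  have hdeg' : ∀ (z : B) (hz : IsClosed ({z} : Set B)), FGA.intNum k X 2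
      ![L, ClSub.idealMod ((Scheme.IdealSheafData.vanishingIdeal ⟨{z}, hz⟩).comap π)] (Coh.structureModule X) ≤ 0 :=
    fun z hz => by rw [hdeg z hz]; omega
  obtain ⟨hπp, hflat⟩ := basic hX2 hB π hπ hsurj hfib
  haveI := hπp; haveI := hflat
  obtain ⟨hBp, -, hBi, -⟩ := id hB
  haveI := hBp; haveI := hBi
  haveI := CurveRR.isNoetherian_of_proper k B
  haveI := CurveRR.isNoetherian_of_proper k X
  have hcoh := CurveRR.isCoh_of_inv hL
  have hfl : FlatMod.IsFlatOver π L :=
    W7Hull.isFlatOver_of_isFinLocFree π (fun x => ((CurveRR.isFinLocFreeOfRank_one hL) x).imp fun U h => ⟨1, h⟩)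
  obtain ⟨-, hflf, hloc⟩ := W7Cech.of_higher_vanish π hcoh hfl fun i hi =>
    isZero_rpush hX2 hB π hπ hsurj hfib hL hdeg' i hi
  have hlf : ∀ i : ℕ, FlatMod.IsFinLocFree ((Coh.Rpush π i).obj L) := fun i => by
    rcases Nat.eq_zero_or_pos i with rfl | hi
    · exact hflf
    · refine (Groth.Agent.S2391.result π _ hcoh hfl i ?_).1
      rw [show CohIII.fiberRank π L i = fun _ => 0 from funext fun y =>
        haveI := subsingleton_fiberH_of_nonneg hX2 hB π hπ hsurj hfib hL hdeg' y i hi
        Module.finrank_zero_of_subsingleton]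
      exact IsLocallyConstant.const 0
  have hlc := W7Cech.isLocallyConstant_fiberRank_of_flat π hcoh hfl 0 hlf
  refine Nagata.isFinLocFreeOfRank_of_iso ((Coh.push π).rightDerivedZeroIsoSelf.app L) fun y => ?_
  obtain ⟨z, -, hzc⟩ := IsClosed.exists_closed_singleton (S := (Set.univ : Set B)) isClosed_univ ⟨y, trivial⟩
  obtain ⟨U, hy, hU⟩ := hloc y
  refine ⟨U, hy, ?_⟩
  rwa [hlc.apply_eq_of_preconnectedSpace y z,
    (fibre_degree hX2 hB π hπ hsurj hfib hL z hzc n (hdeg z hzc)).2] at hU

/-- The direct image of the structure sheaf is the structure sheaf. -/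
theorem bijective_app (W : B.Opens) : Function.Bijective (π.app W).hom := by
  obtain ⟨hπp, -⟩ := basic hX2 hB π hπ hsurj hfib
  haveI := hπp
  obtain ⟨hBp, hBs, hBi, -⟩ := id hB
  haveI := hBp; haveI := hBs; haveI := hBi
  haveI := smooth hX2 hB π hπ hsurj hfib
  obtain ⟨hgi, -⟩ := generic_fibre hX2 hB π hπ hsurj hfib
  haveI := hgi
  let η := genericPoint B
  haveI : GeometricallyConnected (π.fiberToSpecResidueField η) := ⟨fun K _ y Y fst snd H => by
    haveI := GeometricallyIntegral.geometrically_isIntegral (f := π.fiberToSpecResidueField η) y fst snd H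
    infer_instance⟩
  haveI : GeometricallyReduced (π.fiberToSpecResidueField η) := ⟨fun K _ y Y fst snd H => by
    haveI := GeometricallyIntegral.geometrically_isIntegral (f := π.fiberToSpecResidueField η) y fst snd H
    infer_instance⟩
  haveI : IsProper (π.fiberToSpecResidueField η) := MorphismProperty.pullback_snd (P := @IsProper) π _ hπp
  have hbij := W7See.bijective_global_field (π.fiberToSpecResidueField η)
  have h0 : Function.Bijective (π.fiberToSpecResidueField η).appTop :=
    (Function.Bijective.of_comp_iff _ (Scheme.ΓSpecIso (B.residueField η)).symm.commRingCatIsoToRingEquiv.bijective).1 hbij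
  have hS : Pi1.IsNormalScheme B := QuotCurve.isNormalScheme_of_regular
    (WeilExt.regular_of_smooth (WeilExt.regular_spec (R := k)) (B ↘ Spec (CommRingCat.of k)))
  refine PurePair.bijective_app_of_basis π {O : B.Opens | IsAffineOpen O ∧ Nonempty O} (fun W x hx => ?_) (fun O hO => ?_) W
  · obtain ⟨V, hV, hxV, hVW⟩ := exists_isAffineOpen_mem_and_subset (x := x) (U := W) hx
    exact ⟨V, ⟨hV, ⟨⟨x, hxV⟩⟩⟩, hxV, hVW⟩
  · haveI := hO.2
    refine SteinGen.bijective_app_of_normal π hS (fun Z hZ x hx => ?_) h0 hO.1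
    rw [irreducibleComponents_eq_singleton, Set.mem_singleton_iff] at hZ
    rw [(hZ ▸ hx : IsGenericPoint x (Set.univ : Set X)).eq (genericPoint_spec X)]
    exact GenusTsen.map_genericPoint π hsurj

/-- Irregularity and geometric genus. -/
theorem h_structure : Module.finrank k (Coh.HH X (Coh.structureModule X) 1) = Curv2.genus k B ∧
    Subsingleton (Coh.HH X (Coh.structureModule X) 2) := by
  obtain ⟨hπp, -⟩ := basic hX2 hB π hπ hsurj hfib
  haveI := hπp
  obtain ⟨hBp, -, hBi, hBd⟩ := id hB
  haveI := hBp; haveI := hBi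
  haveI := CurveRR.isNoetherian_of_proper k B
  haveI := CurveRR.isNoetherian_of_proper k X
  haveI : HasInjectiveResolutions X.Modules := inferInstance
  have hdeg : ∀ (z : B) (hz : IsClosed ({z} : Set B)), FGA.intNum k X 2
      ![Coh.structureModule X, ClSub.idealMod ((Scheme.IdealSheafData.vanishingIdeal ⟨{z}, hz⟩).comap π)]
      (Coh.structureModule X) ≤ 0 := fun z hz => le_of_eq (by
    exact_mod_cast (Intersect.intNum_eq_alt k 2 hX2.le _ _).trans (Intersect.alt_cons_unit k (Coh.structureModule X)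
      ![ClSub.idealMod ((Scheme.IdealSheafData.vanishingIdeal ⟨{z}, hz⟩).comap π)]))
  obtain ⟨e⟩ := W7Strat.push_structure_iso π fun W => bijective_app hX2 hB π hπ hsurj hfib W
  have hh := fun i => hh_equiv hX2 hB π hπ hsurj hfib TMul.isInvertible_structureModule hdeg i
  refine ⟨?_, ?_⟩
  · obtain ⟨l⟩ := hh 1
    exact l.finrank_eq.trans (CurveRR.h_eq_of_iso e 1)
  · obtain ⟨l⟩ := hh 2
    haveI := DCohShriek.subsingleton_hh_of_dim_le k 1 hBd.le _
      (TMul.isQCoh_of_isInvertible TMul.isInvertible_structureModule (X := B)) 2 one_lt_two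
    haveI : Subsingleton (Coh.HH B ((Coh.push π).obj (Coh.structureModule X)) 2) :=
      Castel.subsingleton_hh_iso e.symm 2 this
    exact l.toEquiv.subsingleton

end Groth.Agent.P1Fib

end
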