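import Groth.Agent.P1Fib.Split
import Groth.Agent.ThetaLib.HomGen
import Groth.Agent.W7Cech.BC0Epi

/-!
# Three pairwise disjoint sections trivialise the bundle
-/

set_option autoImplicit false
set_option linter.style.haveILetI false
set_option linter.unusedSectionVars false
set_option backward.isDefEq.respectTransparency false
set_option backward.isDefEq.respectTransparency.types false
set_option synthInstance.maxHeartbeats 400000
set_option maxHeartbeats 1000000

universe u

open CategoryTheory CategoryTheory.Limits AlgebraicGeometry TopologicalSpace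
open Groth.Agent.QC (res resO res_res res_self app_res res_smul)
open TMul (IsGen)

noncomputable section

namespace Groth.Agent.P1Fib

variable {C B : Scheme.{u}} {f : C ⟶ B} {E : B.Modules} {L : C.Modules}
  {q : (Scheme.Modules.pullback f).obj E ⟶ L}

theorem isGen_smul {X : Scheme.{u}} {M : X.Modules} {U : X.Opens} {e : Γ(M, U)} (he : IsGen e)
    {a : Γ(X, U)} (ha : IsUnit a) : IsGen (a • e) := fun V hV => by
  have hu : IsUnit (resO X hV a) := ha.map _
  have : (fun c : Γ(X, V) => c • res M hV (a • e)) =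
      (fun c : Γ(X, V) => c • res M hV e) ∘ fun c => c * resO X hV a := funext fun c => by
    rw [Function.comp_apply, res_smul, mul_smul]
  rw [this]
  exact (he V hV).comp hu.unit.mulRight_bijective

/-- The comparison of a pulled back quotient of a section. -/
theorem map_sectQuot {T : Scheme.{u}} (g : T ⟶ B) (s : B ⟶ C) (hs : s ≫ f = 𝟙 B)
    (q : (Scheme.Modules.pullback f).obj E ⟶ L) :
    (Scheme.Modules.pullback g).map (sectQuot q s hs) =
      PBundle.bc q (g ≫ s) (by rw [Category.assoc, hs, Category.comp_id])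
        ((Scheme.Modules.pullbackComp g s).inv.app L) := by
  refine PBundle.ext_sec' g fun U t => ?_
  refine Eq.trans ?_ (PBundle.sec'_bc' q (g ≫ s) (by rw [Category.assoc, hs, Category.comp_id]) _ U t).symm
  refine (QC.app_pullSect g (sectQuot q s hs) U t).trans ?_
  rw [sectQuot_app, ← pullSect_res']
  refine congrArg (res _ _) ?_
  symm
  rw [← QC.pullbackComp_hom_pullSect g s L (f ⁻¹ᵁ U) (PBundle.sec' f q U t)]
  exact congr(($((Scheme.Modules.pullbackComp g s).hom_inv_id_app L)).app (g ⁻¹ᵁ (s ⁻¹ᵁ (f ⁻¹ᵁ U))) _)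

/-- **Two disjoint sections have independent quotients.** -/
theorem isIso_of_disjoint (hP : KRR.IsProjBundle f E L q) (s t : B ⟶ C) (hs : s ≫ f = 𝟙 B) (ht : t ≫ f = 𝟙 B)
    (hdisj : Disjoint (Set.range s) (Set.range t)) {M : B.Modules} (hM : PicF.IsInvertible M)
    (j : M ⟶ E) (p : E ⟶ M) (r : (Scheme.Modules.pullback s).obj L ⟶ E)
    (hsum : p ≫ j + sectQuot q s hs ≫ r = 𝟙 E) : IsIso (j ≫ sectQuot q t ht) := by
  have hL := PBundle.isInvertible hP
  haveI := hP.epi
  let N := (Scheme.Modules.pullback t).obj L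
  have hN : PicF.IsInvertible N := PicLoc.isInvertible_pullback t hL
  let χ : M ⟶ N := j ≫ sectQuot q t ht
  have hloc : ∀ b : B, ∃ (U : B.Opens) (k : Γ(M, U)), b ∈ U ∧ IsGen k ∧ IsGen (χ.app U k) := fun b => by
    obtain ⟨U₁, k₁, hb₁, hk₁⟩ := TMul.exists_isGen hM b
    obtain ⟨U₂, e₂, hb₂, he₂⟩ := TMul.exists_isGen hN b
    obtain ⟨V, hV, hbV, hVle⟩ := exists_isAffineOpen_mem_and_subset (x := b) (U := U₁ ⊓ U₂) ⟨hb₁, hb₂⟩
    replace hVle : V ≤ U₁ ⊓ U₂ := hVle
    have hk := hk₁.res (hVle.trans inf_le_left)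
    have he := he₂.res (hVle.trans inf_le_right)
    obtain ⟨a, ha⟩ := (he V le_rfl).2 (χ.app V (res M (hVle.trans inf_le_left) k₁))
    simp only [res_self] at ha
    by_cases hab : b ∈ B.basicOpen a
    · refine ⟨B.basicOpen a, _, hab, hk.res (B.basicOpen_le a), ?_⟩
      rw [← app_res, ← ha, res_smul]
      exact isGen_smul (he.res _) (B.toRingedSpace.isUnit_res_basicOpen a)
    exfalso
    let T := Spec (B.residueField b)
    let g : T ⟶ B := B.fromSpecResidueField b
    have hall : ∀ z : T, g z = b := fun z => Set.mem_singleton_iff.1 (B.range_fromSpecResidueField b ▸ ⟨z, rfl⟩)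
    have htop : (⊤ : T.Opens) ≤ g ⁻¹ᵁ V := fun z _ => by
      show g z ∈ V
      rw [hall]; exact hbV
    have ha0 : (g.appLE V ⊤ htop).hom a = 0 := by
      have h1 := (B.evaluation_eq_zero_iff_notMem_basicOpen b hbV a).2 hab
      rw [← W7Cech.appLE_fromSpecResidueField hV b hbV htop] at h1
      exact (map_eq_zero_iff _ (ConcreteCategory.bijective_of_isIso (Scheme.ΓSpecIso (B.residueField b)).hom).1).1 h1
    have hχ : (Scheme.Modules.pullback g).map χ = 0 := by
      refine ThetaLib.hom_ext_gens (fun _ : Unit => (⊤ : T.Opens))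
        (fun _ => res _ htop (OmegaSh.pullSect g M V (res M (hVle.trans inf_le_left) k₁)))
        (fun _ => ⟨(), trivial⟩) (fun _ => (C1Cap.isGen_eta g hk).res _) fun _ => ?_
      rw [← app_res, QC.app_pullSect, ← ha, PBundle.pullSect_smul, res_smul]
      refine Eq.trans (congrArg (· • _) ?_) ((zero_smul _ _).trans (by rfl))
      exact (ConcreteCategory.congr_hom (g.appLE_map (le_refl (g ⁻¹ᵁ V)) (homOfLE htop).op) a).symm.trans ha0 |>
        fun h => by simpa [Scheme.Hom.appLE] using h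
    let hgs : (g ≫ s) ≫ f = g := by rw [Category.assoc, hs, Category.comp_id]
    let hgt : (g ≫ t) ≫ f = g := by rw [Category.assoc, ht, Category.comp_id]
    let F := Scheme.Modules.pullback g
    have hj0 : F.map j ≫ F.map (sectQuot q t ht) = 0 := by rw [← F.map_comp]; exact hχ
    let β : F.obj ((Scheme.Modules.pullback s).obj L) ⟶ F.obj N := F.map r ≫ F.map (sectQuot q t ht)
    have hfac : F.map (sectQuot q s hs) ≫ β = F.map (sectQuot q t ht) := by
      have h1 : sectQuot q t ht = p ≫ j ≫ sectQuot q t ht + sectQuot q s hs ≫ r ≫ sectQuot q t ht := by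
        rw [← Category.assoc, ← Category.assoc, ← Preadditive.add_comp, hsum, Category.id_comp]
      conv_rhs => rw [h1, F.map_add, F.map_comp p, show F.map (j ≫ sectQuot q t ht) = 0 from hχ, comp_zero,
        zero_add, F.map_comp, F.map_comp]
    haveI : Epi (sectQuot q t ht) := epi_sectQuot t ht
    haveI : Epi β := epi_of_epi_fac hfac
    haveI : IsIso β := W7Adic.isIso_of_epi_invertible (PicLoc.isInvertible_pullback g (PicLoc.isInvertible_pullback s hL))
      (PicLoc.isInvertible_pullback g hN) β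
    let es := ((Scheme.Modules.pullbackComp g s).app L).symm ≪≫ asIso β
    let et := ((Scheme.Modules.pullbackComp g t).app L).symm
    have hes : PBundle.bc q (g ≫ s) hgs es.hom = F.map (sectQuot q t ht) := by
      rw [← hfac, map_sectQuot]
      simp [es, PBundle.bc]
    have heq : g ≫ s = g ≫ t := PBundle.hom_unique hP
      (CurveRR.isFinLocFreeOfRank_one (PicLoc.isInvertible_pullback g hN)) (F.map (sectQuot q t ht)) hgs hgt es et
      hes (map_sectQuot g t ht q).symm
    obtain ⟨z⟩ : Nonempty T := inferInstance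
    refine Set.disjoint_left.1 hdisj ⟨g z, rfl⟩ ⟨g z, ?_⟩
    exact (congrArg (fun h : T ⟶ C => h z) heq).symm
  choose U k hU hk hk' using hloc
  exact ThetaLib.isIso_of_gens U k (fun b => ⟨b, hU b⟩) hk χ hk'

/-- A global generator trivialises. -/
theorem isIso_homOf {X : Scheme.{u}} {M : X.Modules} {e : Γ(M, ⊤)} (he : IsGen e) :
    IsIso (TMul.homOf e) :=
  ThetaLib.isIso_of_gens (fun _ : Unit => (⊤ : X.Opens))
    (fun _ => (show Γ(Coh.structureModule X, ⊤) from (1 : Γ(X, ⊤)))) (fun _ => ⟨(), trivial⟩)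
    (fun _ => TMul.isGen_one ⊤) _ fun _ => by
    rw [show (TMul.homOf e).app ⊤ (show Γ(Coh.structureModule X, ⊤) from (1 : Γ(X, ⊤))) = TMul.val (TMul.homOf e) ⊤
      from rfl, TMul.val_homOf, res_self]
    exact he

/-- The free module of rank two is a biproduct. -/
def freeTwoIso (X : Scheme.{u}) : FlatMod.freeMod X 2 ≅ Coh.structureModule X ⊞ Coh.structureModule X where
  hom := Sigma.desc ![biprod.inl, biprod.inr]
  inv := biprod.desc (Sigma.ι (fun _ : Fin 2 => Coh.structureModule X) 0)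
    (Sigma.ι (fun _ : Fin 2 => Coh.structureModule X) 1)
  hom_inv_id := Sigma.hom_ext _ _ fun i => by
    fin_cases i <;> simp
  inv_hom_id := by
    apply biprod.hom_ext' <;> simp

/-- **Three pairwise disjoint sections trivialise the bundle.** -/
theorem exists_free (f : C ⟶ B) [IsProper f] [SmoothOfRelativeDimension 1 f] (hfib : GeoP1 f)
    (s₁ s₂ s₃ : B ⟶ C) (hs₁ : s₁ ≫ f = 𝟙 B) (hs₂ : s₂ ≫ f = 𝟙 B) (hs₃ : s₃ ≫ f = 𝟙 B)
    (h₁₂ : Disjoint (Set.range s₁) (Set.range s₂)) (h₁₃ : Disjoint (Set.range s₁) (Set.range s₃))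
    (h₂₃ : Disjoint (Set.range s₂) (Set.range s₃)) :
    ∃ (O1 : C.Modules) (q : (Scheme.Modules.pullback f).obj (FlatMod.freeMod B 2) ⟶ O1),
      KRR.IsProjBundle f (FlatMod.freeMod B 2) O1 q := by
  obtain ⟨L, u, hL, hP, φ, hu₁, hfst, hsnd⟩ := exists_split_data f hfib s₁ s₂ hs₁ hs₂ h₁₂
  let M₁ := (Scheme.Modules.pullback s₁).obj L
  have i₂ := isIso_homOf (isGen_sectQuot f u hu₁ s₂ hs₂ h₁₂)
  have i₃ := isIso_homOf (isGen_sectQuot f u hu₁ s₃ hs₃ h₁₃)
  haveI : IsIso ((biprod.inl ≫ φ.inv) ≫ sectQuot ((Scheme.Modules.pullbackPushforwardAdjunction f).counit.app L) s₃ hs₃) := by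
    refine isIso_of_disjoint hP s₂ s₃ hs₂ hs₃ h₂₃ (PicLoc.isInvertible_pullback s₁ hL) _
      (φ.hom ≫ biprod.fst) (biprod.inr ≫ φ.inv) ?_
    rw [← hsnd, Category.assoc, Category.assoc, ← Preadditive.comp_add, ← Category.assoc biprod.fst,
      ← Category.assoc biprod.snd, ← Preadditive.add_comp, biprod.total, Category.id_comp, Iso.hom_inv_id]
  let e₁ : Coh.structureModule B ≅ M₁ :=
    @asIso _ _ _ _ _ i₃ ≪≫ (asIso ((biprod.inl ≫ φ.inv) ≫
      sectQuot ((Scheme.Modules.pullbackPushforwardAdjunction f).counit.app L) s₃ hs₃)).symm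
  exact ⟨L, _, PBundle.of_moduleIso hP
    (freeTwoIso B ≪≫ biprod.mapIso e₁ (@asIso _ _ _ _ _ i₂) ≪≫ φ.symm)⟩

end Groth.Agent.P1Fib

end
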